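import Groth.Agent.Lib.FEtale4.Glue
import Mathlib.RingTheory.Etale.Basic

/-!
# Formally étale morphisms, affine locally
-/

universe u

open AlgebraicGeometry CategoryTheory Limits

namespace Groth.Agent.FEtale4

variable {X S : Scheme.{u}} {f : X ⟶ S}

/-- A formally étale algebra gives a formally étale morphism of spectra. -/
theorem isFormallyEtaleHom_Spec {R B : CommRingCat.{u}} (φ : R ⟶ B)
    (h : letI := φ.hom.toAlgebra; Algebra.FormallyEtale R B) :
    MoreMor.IsFormallyEtaleHom (Spec.map φ) := by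
  letI := φ.hom.toAlgebra
  haveI : Algebra.FormallyEtale R B := h
  intro A _ I hI a b w
  obtain ⟨α, rfl⟩ := Spec.map_surjective a
  obtain ⟨β, rfl⟩ := Spec.map_surjective b
  rw [← Spec.map_comp, ← Spec.map_comp] at w
  have hw := Spec.map_injective w
  letI : Algebra R A := β.hom.toAlgebra
  let α' : B →ₐ[R] A ⧸ I :=
    { α.hom with commutes' := fun r => (congr($(hw).hom r)).symm }
  obtain ⟨g, hg⟩ := (Algebra.FormallyEtale.comp_bijective R B I hI).2 α'
  refine ⟨Spec.map (CommRingCat.ofHom g.toRingHom), ⟨?_, ?_⟩, fun l hl => ?_⟩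
  · rw [← Spec.map_comp]
    congr 1
    ext r
    exact DFunLike.congr_fun hg r
  · rw [← Spec.map_comp]
    congr 1
    ext r
    exact g.commutes r
  · obtain ⟨χ, rfl⟩ := Spec.map_surjective l
    rw [← Spec.map_comp, ← Spec.map_comp] at hl
    have h1 := Spec.map_injective hl.1
    have h2 := Spec.map_injective hl.2
    let χ' : B →ₐ[R] A := { χ.hom with commutes' := fun r => congr($(h2).hom r) }
    have hχ : χ' = g := (Algebra.FormallyEtale.comp_bijective R B I hI).1
      ((AlgHom.ext fun r => congr($(h1).hom r) : (Ideal.Quotient.mkₐ R I).comp χ' = α').trans hg.symm)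
    congr 1
    ext r
    exact DFunLike.congr_fun hχ r

theorem range_subset_of_comp {X T T' : Scheme.{u}} (t : T ⟶ T') [Surjective t] (l : T' ⟶ X) (U : Set X)
    (h : ∀ z, (t ≫ l) z ∈ U) : Set.range l ⊆ U := by
  rintro _ ⟨y, rfl⟩
  obtain ⟨z, rfl⟩ := t.surjective y
  rw [← Scheme.Hom.comp_apply]
  exact h z

theorem surjective_spec_quotient {A : Type u} [CommRing A] (I : Ideal A) (hI : I ^ 2 = ⊥) :
    Surjective (Spec.map (CommRingCat.ofHom (Ideal.Quotient.mk I))) := ⟨fun p => by
  have hp : I ≤ p.asIdeal := fun x hx => p.2.mem_of_pow_mem 2 (by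
    have : x ^ 2 ∈ I ^ 2 := Ideal.pow_mem_pow hx 2
    rw [hI, Ideal.mem_bot] at this
    rw [this]; exact zero_mem _)
  obtain ⟨q, hq⟩ : p ∈ Set.range (PrimeSpectrum.comap (Ideal.Quotient.mk I)) := by
    rw [range_comap_of_surjective _ _ Ideal.Quotient.mk_surjective, Ideal.mk_ker]
    exact hp
  exact ⟨q, hq⟩⟩

/-- The sections map of a formally étale morphism between affine opens is formally étale. -/
theorem formallyEtale_appLE (hf : MoreMor.IsFormallyEtaleHom f) {U : X.Opens} {V : S.Opens}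
    (hU : IsAffineOpen U) (hV : IsAffineOpen V) (hUV : U ≤ f ⁻¹ᵁ V) :
    letI := (f.appLE V U hUV).hom.toAlgebra
    Algebra.FormallyEtale Γ(S, V) Γ(X, U) := by
  letI := (f.appLE V U hUV).hom.toAlgebra
  refine Algebra.FormallyEtale.iff_comp_bijective.2 fun A _ _ I hI => ?_
  let q := CommRingCat.ofHom (Ideal.Quotient.mk I)
  haveI : Surjective (Spec.map q) := surjective_spec_quotient I hI
  let β := CommRingCat.ofHom (algebraMap Γ(S, V) A)
  have key : ∀ α : Γ(X, U) →ₐ[Γ(S, V)] A ⧸ I,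
      Spec.map q ≫ Spec.map β ≫ hV.fromSpec = (Spec.map (CommRingCat.ofHom α.toRingHom) ≫ hU.fromSpec) ≫ f := by
    intro α
    rw [Category.assoc, ← IsAffineOpen.SpecMap_appLE_fromSpec f hV hU hUV, ← Spec.map_comp_assoc,
      ← Spec.map_comp_assoc]
    congr 2
    ext r
    exact (α.commutes r).symm
  refine ⟨fun g₁ g₂ h => ?_, fun α => ?_⟩
  · obtain ⟨l, -, hl⟩ := hf A I hI _ _ (key ((Ideal.Quotient.mkₐ _ I).comp g₁))
    have hlift : ∀ g : Γ(X, U) →ₐ[Γ(S, V)] A,
        (Ideal.Quotient.mkₐ Γ(S, V) I).comp g = (Ideal.Quotient.mkₐ _ I).comp g₁ →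
        Spec.map (CommRingCat.ofHom g.toRingHom) ≫ hU.fromSpec = l := by
      intro g hg
      refine hl _ ⟨?_, ?_⟩
      · rw [← Spec.map_comp_assoc]
        congr 2
        ext r
        exact DFunLike.congr_fun hg r
      · rw [Category.assoc, ← IsAffineOpen.SpecMap_appLE_fromSpec f hV hU hUV, ← Spec.map_comp_assoc]
        congr 2
        ext r
        exact g.commutes r
    have h12 := Spec.map_injective ((cancel_mono hU.fromSpec).1 ((hlift g₁ rfl).trans (hlift g₂ h.symm).symm))
    exact AlgHom.ext fun r => congr($(h12).hom r)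
  · obtain ⟨l, ⟨hl1, hl2⟩, -⟩ := hf A I hI _ _ (key α)
    have hrange : Set.range l ⊆ Set.range hU.fromSpec :=
      range_subset_of_comp (Spec.map q) l _ fun z => by
        rw [hl1, Scheme.Hom.comp_apply]; exact ⟨_, rfl⟩
    obtain ⟨γ, hγ⟩ := Spec.map_surjective (IsOpenImmersion.lift hU.fromSpec l hrange)
    have hγ' : Spec.map γ ≫ hU.fromSpec = l := by rw [hγ, IsOpenImmersion.lift_fac]
    have h2 : f.appLE V U hUV ≫ γ = β := Spec.map_injective ((cancel_mono hV.fromSpec).1 (by
      rw [Spec.map_comp, Category.assoc, IsAffineOpen.SpecMap_appLE_fromSpec f hV hU hUV,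
        ← Category.assoc, hγ', hl2]))
    refine ⟨{ γ.hom with commutes' := fun r => congr($(h2).hom r) }, ?_⟩
    have h1 : γ ≫ q = CommRingCat.ofHom α.toRingHom := Spec.map_injective ((cancel_mono hU.fromSpec).1 (by
      rw [Spec.map_comp, Category.assoc, hγ', hl1]))
    exact AlgHom.ext fun r => congr($(h1).hom r)

/-- Affine-locally formally étale morphisms are formally étale. -/
theorem isFormallyEtaleHom_of_appLE
    (h : ∀ (U : X.Opens) (V : S.Opens) (_ : IsAffineOpen U) (_ : IsAffineOpen V) (hUV : U ≤ f ⁻¹ᵁ V),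
      letI := (f.appLE V U hUV).hom.toAlgebra
      Algebra.FormallyEtale Γ(S, V) Γ(X, U)) :
    MoreMor.IsFormallyEtaleHom f := by
  intro A _ I hI a b w
  let q := CommRingCat.ofHom (Ideal.Quotient.mk I)
  let t := Spec.map q
  haveI : Surjective t := surjective_spec_quotient I hI
  haveI : IsClosedImmersion t := IsClosedImmersion.spec_of_surjective _ Ideal.Quotient.mk_surjective
  have hhom : IsHomeomorph t :=
    isHomeomorph_iff_continuous_isClosedMap_bijective.2
      ⟨t.continuous, t.isClosedMap, t.isClosedEmbedding.injective, t.surjective⟩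
  refine existsUnique_lift_of_local fun p => ?_
  obtain ⟨z, rfl⟩ := t.surjective p
  obtain ⟨V, hV, hzV, -⟩ := exists_isAffineOpen_mem_and_subset (X := S) (x := f (a z)) (U := ⊤) trivial
  obtain ⟨U, hU, hzU, hUV⟩ := exists_isAffineOpen_mem_and_subset (X := X) (x := a z) (U := f ⁻¹ᵁ V) hzV
  let O : (Spec (CommRingCat.of A)).Opens := ⟨t '' (a ⁻¹' U), hhom.isOpenMap _ (U.2.preimage a.continuous)⟩
  refine ⟨O ⊓ b ⁻¹ᵁ V, ⟨⟨z, hzU, rfl⟩, ?_⟩, fun V' hV' hV'aff => ?_⟩
  · show b (t z) ∈ V
    rw [← Scheme.Hom.comp_apply, w, Scheme.Hom.comp_apply]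
    exact hzV
  haveI : IsAffine V' := hV'aff
  let a' := (t ⁻¹ᵁ V').ι ≫ a
  let b' := V'.ι ≫ b
  have ha' : ∀ y, a' y ∈ U := fun y => by
    obtain ⟨y', hy', hyy⟩ := (hV' y.2).1
    have : y' = y.1 := t.isClosedEmbedding.injective hyy
    show a y.1 ∈ U
    rw [← this]; exact hy'
  let aU := IsOpenImmersion.lift hU.fromSpec a' (by
    rintro _ ⟨y, rfl⟩; rw [hU.range_fromSpec]; exact ha' y)
  let bV := IsOpenImmersion.lift hV.fromSpec b' (by
    rintro _ ⟨y, rfl⟩; rw [hV.range_fromSpec]; exact (hV' y.2).2)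
  have hker : RingHom.ker (t ∣_ V').appTop.hom ^ 2 = ⊥ := by
    rw [pow_two]
    have hz : t.ker * t.ker = ⊥ := by
      apply Scheme.IdealSheafData.ext_of_isAffine
      rw [Scheme.IdealSheafData.ideal_mul, Pi.mul_apply, Scheme.Hom.ker_apply]
      have hle : RingHom.ker (t.app ⊤).hom ≤ I.map (Scheme.ΓSpecIso (CommRingCat.of A)).inv.hom := fun x hx => by
        have hn : q ((Scheme.ΓSpecIso (CommRingCat.of A)).hom x) = 0 := by
          rw [← CommRingCat.comp_apply, ← Scheme.ΓSpecIso_naturality q, CommRingCat.comp_apply,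
            show t.appTop x = 0 from hx, map_zero]
        have hx' := Ideal.mem_map_of_mem (Scheme.ΓSpecIso (CommRingCat.of A)).inv.hom
          ((Ideal.Quotient.eq_zero_iff_mem).1 hn)
        simpa using hx'
      refine le_bot_iff.1 ?_ |>.trans ?_
      · refine (Ideal.mul_mono hle hle).trans ?_
        rw [← Ideal.map_mul, ← pow_two, hI, Ideal.map_bot]
      · simp
    rw [show RingHom.ker (t ∣_ V').appTop.hom = (t ∣_ V').ker.ideal ⟨⊤, isAffineOpen_top _⟩ from
      (Scheme.Hom.ker_apply (t ∣_ V') ⟨⊤, isAffineOpen_top _⟩).symm, Scheme.ker_morphismRestrict_ideal]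
    have h0 : ∀ W, (t.ker * t.ker).ideal W = ⊥ := fun W => by rw [hz]; rfl
    exact h0 _
  have w' : (t ∣_ V') ≫ b' = a' ≫ f := by
    rw [← Category.assoc, morphismRestrict_ι, Category.assoc, w, Category.assoc]
  have wU : (t ∣_ V') ≫ bV = aU ≫ Spec.map (f.appLE V U hUV) := by
    rw [← cancel_mono hV.fromSpec, Category.assoc, IsOpenImmersion.lift_fac, Category.assoc,
      IsAffineOpen.SpecMap_appLE_fromSpec f hV hU hUV, IsOpenImmersion.lift_fac_assoc]
    exact w'
  obtain ⟨l, ⟨hl1, hl2⟩, hl⟩ :=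
    existsUnique_lift_affine (isFormallyEtaleHom_Spec _ (h U V hU hV hUV)) hker wU
  refine ⟨l ≫ hU.fromSpec, ⟨?_, ?_⟩, fun l' hl' => ?_⟩
  · rw [← Category.assoc, hl1, IsOpenImmersion.lift_fac]
  · rw [Category.assoc, ← IsAffineOpen.SpecMap_appLE_fromSpec f hV hU hUV, ← Category.assoc, hl2,
      IsOpenImmersion.lift_fac]
  · haveI : Surjective (t ∣_ V') := IsZariskiLocalAtTarget.restrict (P := @Surjective) ‹Surjective t› V'
    let m := IsOpenImmersion.lift hU.fromSpec l' (by
      rw [hU.range_fromSpec]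
      exact range_subset_of_comp (t ∣_ V') l' _ fun y => by rw [hl'.1]; exact ha' y)
    rw [← IsOpenImmersion.lift_fac hU.fromSpec l' (by
      rw [hU.range_fromSpec]
      exact range_subset_of_comp (t ∣_ V') l' _ fun y => by rw [hl'.1]; exact ha' y)]
    congr 1
    refine hl m ⟨?_, ?_⟩
    · rw [← cancel_mono hU.fromSpec, Category.assoc, IsOpenImmersion.lift_fac, IsOpenImmersion.lift_fac]
      exact hl'.1
    · rw [← cancel_mono hV.fromSpec, Category.assoc, IsAffineOpen.SpecMap_appLE_fromSpec f hV hU hUV,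
        IsOpenImmersion.lift_fac_assoc, IsOpenImmersion.lift_fac]
      exact hl'.2

end Groth.Agent.FEtale4
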