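import Groth.Agent.Lib.FEtale4.Lift
import Groth.Prelude.Def_MoreMor
import Mathlib.AlgebraicGeometry.Morphisms.Etale
import Mathlib.AlgebraicGeometry.PullbackCarrier

/-!
# Flat unramified morphisms are formally étale
-/

universe u

open AlgebraicGeometry CategoryTheory Limits

namespace Groth.Agent.FEtale4

/-- Morphisms with open diagonal have at most one lift along surjective maps. -/
theorem lift_unique {X S T T' : Scheme.{u}} (f : X ⟶ S) [IsOpenImmersion (pullback.diagonal f)]
    (t : T ⟶ T') [Surjective t] {l₁ l₂ : T' ⟶ X} (h : t ≫ l₁ = t ≫ l₂) (hf : l₁ ≫ f = l₂ ≫ f) :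
    l₁ = l₂ := by
  let c := pullback.lift l₁ l₂ hf
  haveI : Surjective (pullback.snd (pullback.diagonal f) c) := by
    let k : T ⟶ pullback (pullback.diagonal f) c := pullback.lift (t ≫ l₁) t (by
      apply pullback.hom_ext
      · simp only [c, Category.assoc, pullback.diagonal_fst, Category.comp_id, pullback.lift_fst]
      · simp only [c, Category.assoc, pullback.diagonal_snd, Category.comp_id, pullback.lift_snd, h])
    haveI : Surjective (k ≫ pullback.snd (pullback.diagonal f) c) := by
      rw [pullback.lift_snd]; infer_instance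
    exact Surjective.of_comp k _
  haveI : IsIso (pullback.snd (pullback.diagonal f) c) :=
    (isIso_iff_isOpenImmersion_and_surjective _).2 ⟨inferInstance, inferInstance⟩
  let w := inv (pullback.snd (pullback.diagonal f) c) ≫ pullback.fst (pullback.diagonal f) c
  have hw : w ≫ pullback.diagonal f = c := by
    rw [Category.assoc, pullback.condition, IsIso.inv_hom_id_assoc]
  calc l₁ = c ≫ pullback.fst f f := (pullback.lift_fst ..).symm
    _ = w := by rw [← hw, Category.assoc, pullback.diagonal_fst, Category.comp_id]
    _ = c ≫ pullback.snd f f := by rw [← hw, Category.assoc, pullback.diagonal_snd, Category.comp_id]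
    _ = l₂ := pullback.lift_snd ..

/-- Unique lifting along surjective closed immersions. -/
theorem existsUnique_lift {X S T T' : Scheme.{u}} (f : X ⟶ S) [Flat f] [FormallyUnramified f]
    [LocallyOfFiniteType f] (t : T ⟶ T') [IsClosedImmersion t] [Surjective t] (a : T ⟶ X) (b : T' ⟶ S)
    (w : t ≫ b = a ≫ f) : ∃! l : T' ⟶ X, t ≫ l = a ∧ l ≫ f = b := by
  haveI : FormallyUnramified (pullback.snd f b) := MorphismProperty.pullback_snd _ _ ‹FormallyUnramified f›
  obtain ⟨s, hs, hts⟩ := exists_section_extend (pullback.snd f b) t (pullback.lift a t w.symm) (pullback.lift_snd ..)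
  refine ⟨s ≫ pullback.fst f b, ⟨by rw [← Category.assoc, hts, pullback.lift_fst], ?_⟩, fun l hl => ?_⟩
  · rw [Category.assoc, pullback.condition, ← Category.assoc, hs, Category.id_comp]
  · refine lift_unique f t ?_ ?_
    · rw [hl.1, ← Category.assoc, hts, pullback.lift_fst]
    · rw [hl.2, Category.assoc, pullback.condition, ← Category.assoc, hs, Category.id_comp]

theorem isFormallyEtaleHom {X S : Scheme.{u}} (f : X ⟶ S) [Flat f] [FormallyUnramified f]
    [LocallyOfFiniteType f] : MoreMor.IsFormallyEtaleHom f := by
  intro A _ I hI a b w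
  haveI : IsClosedImmersion (Spec.map (CommRingCat.ofHom (Ideal.Quotient.mk I))) :=
    IsClosedImmersion.spec_of_surjective _ Ideal.Quotient.mk_surjective
  haveI : Surjective (Spec.map (CommRingCat.ofHom (Ideal.Quotient.mk I))) := ⟨fun p => by
    have hp : I ≤ p.asIdeal := fun x hx => p.2.mem_of_pow_mem 2 (by
      have : x ^ 2 ∈ I ^ 2 := Ideal.pow_mem_pow hx 2
      rw [hI, Ideal.mem_bot] at this
      rw [this]; exact zero_mem _)
    obtain ⟨q, hq⟩ : p ∈ Set.range (PrimeSpectrum.comap (Ideal.Quotient.mk I)) := by
      rw [range_comap_of_surjective _ _ Ideal.Quotient.mk_surjective, Ideal.mk_ker]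
      exact hp
    exact ⟨q, hq⟩⟩
  exact existsUnique_lift f _ a b w

end Groth.Agent.FEtale4
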