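import Groth.Prelude.Def_MoreMor
import Mathlib.AlgebraicGeometry.Restrict
import Mathlib.AlgebraicGeometry.Morphisms.ClosedImmersion

/-!
# Gluing unique lifts
-/

universe u

open AlgebraicGeometry CategoryTheory Limits

namespace Groth.Agent.FEtale4

variable {X S T T' : Scheme.{u}} (f : X ⟶ S) (t : T ⟶ T') (a : T ⟶ X) (b : T' ⟶ S)

/-- `l` lifts on the open `O`. -/
def IsLiftOn (O : T'.Opens) (l : O.toScheme ⟶ X) : Prop :=
  (t ∣_ O) ≫ l = (t ⁻¹ᵁ O).ι ≫ a ∧ l ≫ f = O.ι ≫ b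

theorem morphismRestrict_homOfLE {O V : T'.Opens} (h : V ≤ O) :
    T.homOfLE (t.preimage_mono h) ≫ (t ∣_ O) = (t ∣_ V) ≫ T'.homOfLE h := by
  rw [← cancel_mono O.ι, Category.assoc, Category.assoc, morphismRestrict_ι, Scheme.homOfLE_ι,
    morphismRestrict_ι, Scheme.homOfLE_ι_assoc]

variable {f t a b}

theorem IsLiftOn.restrict {O V : T'.Opens} (h : V ≤ O) {l : O.toScheme ⟶ X} (hl : IsLiftOn f t a b O l) :
    IsLiftOn f t a b V (T'.homOfLE h ≫ l) := by
  refine ⟨?_, ?_⟩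
  · rw [← Category.assoc, ← morphismRestrict_homOfLE t h, Category.assoc, hl.1, Scheme.homOfLE_ι_assoc]
  · rw [Category.assoc, hl.2, Scheme.homOfLE_ι_assoc]

/-- Locally unique lifts glue to a unique lift. -/
theorem existsUnique_lift_of_local
    (hloc : ∀ p : T', ∃ V : T'.Opens, p ∈ V ∧
      ∀ V' ≤ V, IsAffineOpen V' → ∃! l : V'.toScheme ⟶ X, IsLiftOn f t a b V' l) :
    ∃! l : T' ⟶ X, t ≫ l = a ∧ l ≫ f = b := by
  classical
  have hsmall : ∀ (O : T'.Opens) (p : T'), p ∈ O → ∃ V' : T'.Opens, p ∈ V' ∧ V' ≤ O ∧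
      IsAffineOpen V' ∧ ∃! l : V'.toScheme ⟶ X, IsLiftOn f t a b V' l := by
    intro O p hp
    obtain ⟨V, hpV, hV⟩ := hloc p
    obtain ⟨V', hV', hpV', hV'sub⟩ := exists_isAffineOpen_mem_and_subset (U := O ⊓ V) (x := p) ⟨hp, hpV⟩
    exact ⟨V', hpV', fun z hz => (hV'sub hz).1, hV', hV V' (fun z hz => (hV'sub hz).2) hV'⟩
  have huniq : ∀ (O : T'.Opens) (l₁ l₂ : O.toScheme ⟶ X),
      IsLiftOn f t a b O l₁ → IsLiftOn f t a b O l₂ → l₁ = l₂ := by
    intro O l₁ l₂ h₁ h₂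
    refine Scheme.hom_ext_of_forall _ _ fun p => ?_
    obtain ⟨V', hpV', hle, -, hu⟩ := hsmall O p.1 p.2
    refine ⟨O.ι ⁻¹ᵁ V', hpV', ?_⟩
    let k : (O.ι ⁻¹ᵁ V').toScheme ⟶ V'.toScheme :=
      IsOpenImmersion.lift V'.ι ((O.ι ⁻¹ᵁ V').ι ≫ O.ι) (by
        rintro _ ⟨z, rfl⟩
        rw [Scheme.Opens.range_ι]
        exact z.2)
    have hk : (O.ι ⁻¹ᵁ V').ι = k ≫ T'.homOfLE hle := by
      rw [← cancel_mono O.ι, Category.assoc, Scheme.homOfLE_ι, IsOpenImmersion.lift_fac]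
    rw [hk, Category.assoc, Category.assoc, hu.unique (h₁.restrict hle) (h₂.restrict hle)]
  choose V hpV hVtop hVaff hVu using fun p : T' => hsmall ⊤ p trivial
  choose l hl using fun p => (hVu p).exists
  have hcov : TopologicalSpace.IsOpenCover V := by
    rw [TopologicalSpace.IsOpenCover, eq_top_iff]
    exact fun p _ => TopologicalSpace.Opens.mem_iSup.2 ⟨p, hpV p⟩
  let 𝒰 : T'.OpenCover := T'.openCoverOfIsOpenCover V hcov
  have hcompat : ∀ p q : T', pullback.fst (V p).ι (V q).ι ≫ l p = pullback.snd (V p).ι (V q).ι ≫ l q := by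
    intro p q
    let e := (isPullback_opens_inf (V p) (V q))
    rw [← cancel_epi e.isoPullback.hom, IsPullback.isoPullback_hom_fst_assoc,
      IsPullback.isoPullback_hom_snd_assoc]
    exact huniq _ _ _ ((hl p).restrict inf_le_left) ((hl q).restrict inf_le_right)
  let L : T' ⟶ X := Scheme.Cover.glueMorphisms 𝒰 l hcompat
  have hL : ∀ p, (V p).ι ≫ L = l p := fun p => Scheme.Cover.ι_glueMorphisms 𝒰 l hcompat p
  refine ⟨L, ⟨?_, ?_⟩, fun L' hL' => ?_⟩
  · refine Scheme.hom_ext_of_forall _ _ fun z => ⟨t ⁻¹ᵁ V (t z), hpV _, ?_⟩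
    rw [← Category.assoc, ← morphismRestrict_ι, Category.assoc, hL]
    exact (hl _).1
  · refine Scheme.hom_ext_of_forall _ _ fun z => ⟨V z, hpV _, ?_⟩
    rw [← Category.assoc, hL]
    exact (hl _).2
  · refine Scheme.hom_ext_of_forall _ _ fun z => ⟨V z, hpV _, ?_⟩
    rw [hL]
    refine huniq _ _ _ ⟨?_, ?_⟩ (hl z)
    · rw [← Category.assoc, morphismRestrict_ι, Category.assoc, hL'.1]
    · rw [Category.assoc, hL'.2]

/-- Formally étale morphisms lift uniquely along surjective-on-sections affine thickenings. -/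
theorem existsUnique_lift_affine (hf : MoreMor.IsFormallyEtaleHom f) [IsAffine T'] [IsClosedImmersion t]
    (hker : RingHom.ker t.appTop.hom ^ 2 = ⊥) (w : t ≫ b = a ≫ f) :
    ∃! l : T' ⟶ X, t ≫ l = a ∧ l ≫ f = b := by
  obtain ⟨hT, hsurj⟩ := IsClosedImmersion.isAffine_surjective_of_isAffine t
  haveI := hT
  let e : CommRingCat.of (Γ(T', ⊤) ⧸ RingHom.ker t.appTop.hom) ≅ Γ(T, ⊤) :=
    (RingHom.quotientKerEquivOfSurjective hsurj).toCommRingCatIso
  have hfac : CommRingCat.ofHom (Ideal.Quotient.mk (RingHom.ker t.appTop.hom)) ≫ e.hom = t.appTop := by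
    ext x
    rfl
  let φ := CommRingCat.ofHom (Ideal.Quotient.mk (RingHom.ker t.appTop.hom))
  let j : Spec (CommRingCat.of (Γ(T', ⊤) ⧸ RingHom.ker t.appTop.hom)) ⟶ T := Spec.map e.inv ≫ T.isoSpec.inv
  have hj : j ≫ t = Spec.map φ ≫ T'.isoSpec.inv := by
    rw [Category.assoc, ← Scheme.isoSpec_inv_naturality, ← Spec.map_comp_assoc,
      (Iso.comp_inv_eq e).2 hfac.symm]
  haveI : IsIso j := inferInstance
  obtain ⟨l, ⟨hl1, hl2⟩, hl⟩ := hf _ _ hker (j ≫ a) (T'.isoSpec.inv ≫ b) (by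
    rw [← Category.assoc, ← hj, Category.assoc, w]; simp only [j, Category.assoc])
  have h3 : j ≫ t ≫ T'.isoSpec.hom = Spec.map φ := by
    rw [← Category.assoc, hj, Category.assoc, Iso.inv_hom_id, Category.comp_id]
  refine ⟨T'.isoSpec.hom ≫ l, ⟨?_, ?_⟩, fun l' hl' => ?_⟩
  · rw [← cancel_epi j, ← Category.assoc t, ← Category.assoc j, h3]
    exact hl1
  · rw [Category.assoc, hl2, Iso.hom_inv_id_assoc]
  · rw [← cancel_epi T'.isoSpec.inv, Iso.inv_hom_id_assoc]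
    refine hl _ ⟨?_, by rw [Category.assoc, hl'.2]⟩
    show Spec.map φ ≫ T'.isoSpec.inv ≫ l' = _
    rw [← Category.assoc, ← hj, Category.assoc, hl'.1]

/-- Formally étale morphisms lift along every first order thickening. -/
theorem existsUnique_lift_firstOrder (hf : MoreMor.IsFormallyEtaleHom f)
    (ht : MoreMor.IsFirstOrderThickening t) (w : t ≫ b = a ≫ f) :
    ∃! l : T' ⟶ X, t ≫ l = a ∧ l ≫ f = b := by
  obtain ⟨⟨hci, -⟩, hsq⟩ := ht
  haveI := hci
  refine existsUnique_lift_of_local fun p => ⟨⊤, trivial, fun V _ hV => ?_⟩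
  haveI : IsAffine V := hV
  have hk : RingHom.ker (t ∣_ V).appTop.hom ^ 2 = ⊥ := by
    rw [pow_two]
    have h1 : ∀ U : T'.affineOpens, t.ker.ideal U * t.ker.ideal U = ⊥ := fun U => by
      rw [← Pi.mul_apply, ← Scheme.IdealSheafData.ideal_mul, hsq]
      rfl
    rw [show RingHom.ker (t ∣_ V).appTop.hom = (t ∣_ V).ker.ideal ⟨⊤, isAffineOpen_top _⟩ from
      (Scheme.Hom.ker_apply (t ∣_ V) ⟨⊤, isAffineOpen_top _⟩).symm, Scheme.ker_morphismRestrict_ideal]
    exact h1 _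
  exact existsUnique_lift_affine (t := t ∣_ V) (a := (t ⁻¹ᵁ V).ι ≫ a) (b := V.ι ≫ b) hf hk
    (by rw [← Category.assoc, morphismRestrict_ι, Category.assoc, w, Category.assoc])

end Groth.Agent.FEtale4
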