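import Mathlib.AlgebraicGeometry.Morphisms.FlatMono
import Mathlib.AlgebraicGeometry.Morphisms.FormallyUnramified
import Mathlib.AlgebraicGeometry.Morphisms.UniversallyInjective
import Mathlib.AlgebraicGeometry.Morphisms.ClosedImmersion

/-!
# Lifting along thickenings for flat unramified morphisms
-/

universe u

open AlgebraicGeometry CategoryTheory Limits

namespace Groth.Agent.FEtale4

/-- A section over a thickening of the base extends. -/
theorem exists_section_extend {P T T₀ : Scheme.{u}} (p : P ⟶ T) [Flat p] [FormallyUnramified p]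
    [LocallyOfFiniteType p] (i : T₀ ⟶ T) [IsClosedImmersion i] [Surjective i]
    (s₀ : T₀ ⟶ P) (hs₀ : s₀ ≫ p = i) : ∃ s : T ⟶ P, s ≫ p = 𝟙 T ∧ i ≫ s = s₀ := by
  let σ : T₀ ⟶ pullback p i := pullback.lift s₀ (𝟙 T₀) (by rw [hs₀, Category.id_comp])
  have hσ : σ ≫ pullback.snd p i = 𝟙 T₀ := pullback.lift_snd ..
  -- sections of unramified morphisms are open immersions
  haveI : IsOpenImmersion σ := by
    haveI : FormallyUnramified (pullback.snd p i) := MorphismProperty.pullback_snd _ _ ‹FormallyUnramified p›
    haveI : LocallyOfFiniteType (pullback.snd p i) := inferInstance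
    haveI : MorphismProperty.HasOfPostcompProperty (@IsOpenImmersion)
        (@FormallyUnramified ⊓ @LocallyOfFiniteType : MorphismProperty Scheme.{u}) :=
      MorphismProperty.hasOfPostcompProperty_iff_le_diagonal.2 fun X Y f ⟨_, _⟩ => by
        show IsOpenImmersion (pullback.diagonal f)
        infer_instance
    exact MorphismProperty.of_postcomp (W := @IsOpenImmersion)
      (W' := (@FormallyUnramified ⊓ @LocallyOfFiniteType : MorphismProperty Scheme.{u})) σ (pullback.snd p i)
      ⟨inferInstance, inferInstance⟩ (by rw [hσ]; infer_instance)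
  haveI : Surjective (pullback.fst p i) := inferInstance
  have hclosed : IsClosedMap (pullback.fst p i) := (pullback.fst p i).isClosedMap
  have hhom : IsHomeomorph (pullback.fst p i) :=
    isHomeomorph_iff_continuous_isClosedMap_bijective.2
      ⟨(pullback.fst p i).continuous, hclosed, (pullback.fst p i).injective, (pullback.fst p i).surjective⟩
  let W : P.Opens := ⟨Set.range s₀, by
    have : Set.range s₀ = pullback.fst p i '' Set.range σ := by
      rw [← Set.range_comp, ← pullback.lift_fst s₀ (𝟙 T₀) (by rw [hs₀, Category.id_comp] : s₀ ≫ p = 𝟙 T₀ ≫ i)]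
      rfl
    rw [this]
    exact hhom.isOpenMap _ σ.isOpenEmbedding.isOpen_range⟩
  let s₀' : T₀ ⟶ W := IsOpenImmersion.lift W.ι s₀ (by rw [Scheme.Opens.range_ι]; rfl)
  have hs₀' : s₀' ≫ W.ι = s₀ := IsOpenImmersion.lift_fac ..
  let pW := W.ι ≫ p
  have hcomp : s₀' ≫ pW = i := by rw [← Category.assoc, hs₀', hs₀]
  haveI : Surjective s₀' := ⟨fun w => by
    obtain ⟨t, ht⟩ := w.2
    refine ⟨t, W.ι.isOpenEmbedding.injective ?_⟩
    rw [← Scheme.Hom.comp_apply, hs₀']; exact ht⟩
  haveI : Surjective pW := by
    haveI : Surjective (s₀' ≫ pW) := by rw [hcomp]; infer_instance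
    exact Surjective.of_comp s₀' pW
  haveI : Mono pW := by
    haveI : Surjective (pullback.diagonal pW) := by
      let m := pullback.map (s₀' ≫ pW) (s₀' ≫ pW) pW pW s₀' s₀' (𝟙 T) (Category.comp_id _) (Category.comp_id _)
      haveI : Surjective m :=
        MorphismProperty.pullbackMap (P := @Surjective) inferInstance inferInstance rfl rfl
      haveI : Mono (s₀' ≫ pW) := by rw [hcomp]; infer_instance
      have hm : s₀' ≫ pullback.diagonal pW = pullback.diagonal (s₀' ≫ pW) ≫ m := by
        apply pullback.hom_ext
        · simp only [m, Category.assoc, pullback.diagonal_fst, Category.comp_id, pullback.map, pullback.lift_fst, pullback.diagonal_fst_assoc]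
        · simp only [m, Category.assoc, pullback.diagonal_snd, Category.comp_id, pullback.map, pullback.lift_snd, pullback.diagonal_snd_assoc]
      haveI : Surjective (s₀' ≫ pullback.diagonal pW) := by rw [hm]; infer_instance
      exact Surjective.of_comp s₀' (pullback.diagonal pW)
    haveI : FormallyUnramified pW := MorphismProperty.comp_mem _ _ _ inferInstance ‹FormallyUnramified p›
    haveI : LocallyOfFiniteType pW := inferInstance
    haveI : IsIso (pullback.diagonal pW) :=
      (isIso_iff_isOpenImmersion_and_surjective _).2 ⟨inferInstance, inferInstance⟩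
    exact (pullback.isIso_diagonal_iff pW).1 inferInstance
  haveI : QuasiCompact pW := by
    refine ⟨fun U hU hc => ?_⟩
    have : pW ⁻¹' U = s₀' '' (i ⁻¹' U) := by
      rw [← hcomp]
      show pW ⁻¹' U = s₀' '' (s₀' ⁻¹' (pW ⁻¹' U))
      rw [Set.image_preimage_eq _ s₀'.surjective]
    rw [this]
    exact (i.isClosedEmbedding.isCompact_preimage hc).image s₀'.continuous
  haveI : IsIso pW := Flat.isIso_of_surjective_of_mono pW
  refine ⟨inv pW ≫ W.ι, by rw [Category.assoc]; exact IsIso.inv_hom_id pW, ?_⟩
  rw [← Category.assoc, ← hs₀']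
  congr 1
  rw [← cancel_mono pW, Category.assoc, IsIso.inv_hom_id, Category.comp_id, hcomp]

end Groth.Agent.FEtale4
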